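import Groth.Agent.H28Const.Index
import Mathlib.CategoryTheory.Monoidal.Cartesian.Grp
import Mathlib.Topology.LocallyConstant.Algebra
import Mathlib.AlgebraicGeometry.Morphisms.FiniteType

/-!
# The constant group scheme of an abstract group
-/

set_option autoImplicit false
set_option linter.style.haveILetI false
set_option backward.isDefEq.respectTransparency false
universe u

open CategoryTheory CategoryTheory.Limits MonoidalCategory CartesianMonoidalCategory MonObj AlgebraicGeometry Opposite
open Groth.Agent

noncomputable section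

namespace Groth.Agent.H25LargeAlb

variable (S : Scheme.{u}) (M : Type u) [Group M]

variable {S M} in
/-- The opens on which a locally constant function takes a given value. -/
def fibreOpen {T : Over S} (f : LocallyConstant T.left M) (m : M) : T.left.Opens :=
  ⟨f ⁻¹' {m}, f.isLocallyConstant.isOpen_fiber m⟩

variable {S M} in
/-- The cover by the level sets. -/
def fibreCover {T : Over S} (f : LocallyConstant T.left M) : T.left.OpenCover :=
  T.left.openCoverOfIsOpenCover (fibreOpen f)
    (eq_top_iff.2 fun x _ => TopologicalSpace.Opens.mem_iSup.2 ⟨f x, rfl⟩)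

variable {S M} in
theorem glue_compat {T : Over S} (f : LocallyConstant T.left M) (m m' : M) :
    pullback.fst ((fibreCover f).f m) ((fibreCover f).f m') ≫ ((fibreOpen f m).ι ≫ T.hom ≫ Sigma.ι (fun _ : M => S) m) =
      pullback.snd ((fibreCover f).f m) ((fibreCover f).f m') ≫
        ((fibreOpen f m').ι ≫ T.hom ≫ Sigma.ι (fun _ : M => S) m') := by
  by_cases h : m = m'
  · subst h
    show pullback.fst (fibreOpen f m).ι (fibreOpen f m).ι ≫ _ = pullback.snd (fibreOpen f m).ι (fibreOpen f m).ι ≫ _
    rw [← Category.assoc, pullback.condition, Category.assoc]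
  · haveI : IsEmpty ↥(pullback ((fibreCover f).f m) ((fibreCover f).f m')) := ⟨fun z => h (by
      have h2 := congrArg (fun φ : pullback ((fibreCover f).f m) ((fibreCover f).f m') ⟶ T.left => f (φ z))
        (pullback.condition (f := (fibreCover f).f m) (g := (fibreCover f).f m'))
      exact (show f ((fibreOpen f m).ι ((pullback.fst ((fibreCover f).f m) ((fibreCover f).f m')) z)) = m from
        ((pullback.fst ((fibreCover f).f m) ((fibreCover f).f m')) z).2).symm.trans (h2.trans
        (show f ((fibreOpen f m').ι ((pullback.snd ((fibreCover f).f m) ((fibreCover f).f m')) z)) = m' from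
        ((pullback.snd ((fibreCover f).f m) ((fibreCover f).f m')) z).2)))⟩
    exact isInitialOfIsEmpty.hom_ext _ _

variable {S M} in
/-- The point of the constant scheme with given index function. -/
def ofIdx {T : Over S} (f : LocallyConstant T.left M) : T ⟶ TwC.const S M :=
  Over.homMk ((fibreCover f).glueMorphisms (fun m => (fibreOpen f m).ι ≫ T.hom ≫ Sigma.ι (fun _ : M => S) m)
      (glue_compat f))
    (by
      refine (fibreCover f).hom_ext _ _ fun m => ?_
      rw [Scheme.Cover.ι_glueMorphisms_assoc]
      simp [fibreCover, TwC.const])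

variable {S M} in
theorem idx_ofIdx {T : Over S} (f : LocallyConstant T.left M) (t : T.left) : H28Const.idx (ofIdx f) t = f t := by
  refine H28Const.idx_eq ⟨T.hom t, ?_⟩
  have h := congrArg (fun φ : (fibreOpen f (f t)).toScheme ⟶ ∐ fun _ : M => S => φ ⟨t, rfl⟩)
    ((fibreCover f).ι_glueMorphisms (fun m => (fibreOpen f m).ι ≫ T.hom ≫ Sigma.ι (fun _ : M => S) m) (glue_compat f) (f t))
  exact h.symm

variable {S M} in
theorem ext_idx {T : Over S} {z z' : T ⟶ TwC.const S M} (h : ∀ t, H28Const.idx z t = H28Const.idx z' t) : z = z' := by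
  let f : LocallyConstant T.left M := ⟨H28Const.idx z, H28Const.isLocallyConstant_idx z⟩
  refine Over.OverMorphism.ext ((fibreCover f).hom_ext _ _ fun m => ?_)
  let U : Over S := Over.mk ((fibreOpen f m).ι ≫ T.hom)
  let j : U ⟶ T := Over.homMk (fibreOpen f m).ι rfl
  have hU : ∀ s : U.left, H28Const.idx z (j.left s) = m := fun s => s.2
  have e : j ≫ z = j ≫ z' := by
    rw [H28Const.eq_pt (j ≫ z) m fun s => by rw [H28Const.idx_comp, hU],
      H28Const.eq_pt (j ≫ z') m fun s => by rw [H28Const.idx_comp, ← h, hU]]
  exact congrArg (·.left) e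

/-- Locally constant functions, functorially. -/
def idxFunctor : (Over S)ᵒᵖ ⥤ GrpCat.{u} where
  obj T := GrpCat.of (LocallyConstant T.unop.left M)
  map {T T'} g := GrpCat.ofHom
    { toFun := fun f => f.comap ⟨g.unop.left, g.unop.left.continuous⟩
      map_one' := rfl
      map_mul' := fun _ _ => rfl }
  map_id T := rfl
  map_comp f g := rfl

/-- The constant scheme represents locally constant functions. -/
def repIdx : ((idxFunctor S M) ⋙ forget _).RepresentableBy (TwC.const S M) where
  homEquiv {T} :=
    { toFun := fun z => (⟨H28Const.idx z, H28Const.isLocallyConstant_idx z⟩ : LocallyConstant T.left M)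
      invFun := fun f => ofIdx f
      left_inv := fun z => ext_idx fun t => idx_ofIdx _ t
      right_inv := fun f => LocallyConstant.ext fun t => idx_ofIdx f t }
  homEquiv_comp g z := LocallyConstant.ext fun t => H28Const.idx_comp g z t

/-- The constant group scheme. -/
@[implicit_reducible]
def grpObj : GrpObj (TwC.const S M) := GrpObj.ofRepresentableBy _ (idxFunctor S M) (repIdx S M)

attribute [local instance] grpObj

variable {S M} in
theorem idx_mul {T : Over S} (a b : T ⟶ TwC.const S M) (t : T.left) :
    H28Const.idx (a * b) t = H28Const.idx a t * H28Const.idx b t := by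
  have hmul : a * b = lift a b ≫ μ[TwC.const S M] := rfl
  rw [hmul, H28Const.idx_comp]
  show H28Const.idx (ofIdx _) _ = _
  rw [idx_ofIdx]
  show (H28Const.idx (fst (TwC.const S M) (TwC.const S M)) ((lift a b).left t) : M) * H28Const.idx (snd (TwC.const S M) (TwC.const S M)) ((lift a b).left t) = _
  rw [← H28Const.idx_comp, ← H28Const.idx_comp, lift_fst, lift_snd]

variable {S M} in
theorem idx_one {T : Over S} (t : T.left) : H28Const.idx (1 : T ⟶ TwC.const S M) t = 1 := by
  have h := idx_mul (1 : T ⟶ TwC.const S M) 1 t
  rw [_root_.one_mul] at h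
  exact mul_eq_left.1 h.symm

variable {S M} in
theorem isCommMonObj {N : Type u} [CommGroup N] : IsCommMonObj (TwC.const S N) := by
  haveI : ∀ T : Over S, IsMulCommutative (T ⟶ TwC.const S N) := fun T =>
    ⟨⟨fun a b => ext_idx fun t => by rw [idx_mul, idx_mul, mul_comm]⟩⟩
  constructor
  have h : ∀ a b : (TwC.const S N ⊗ TwC.const S N) ⟶ TwC.const S N, a * b = b * a := fun a b =>
    ext_idx fun t => by rw [idx_mul, idx_mul, mul_comm]
  have h2 := h (snd _ _) (fst _ _)
  simp only [Hom.mul_def, lift_fst_snd] at h2
  rw [show (β_ (TwC.const S N) (TwC.const S N)).hom = lift (snd _ _) (fst _ _) by ext <;> simp, h2, Category.id_comp]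

theorem locallyOfFiniteType_hom : LocallyOfFiniteType (TwC.const S M).hom := by
  refine IsZariskiLocalAtSource.of_openCover (P := @LocallyOfFiniteType) (sigmaOpenCover fun _ : M => S) fun m => ?_
  have e : (sigmaOpenCover fun _ : M => S).f m ≫ (TwC.const S M).hom = 𝟙 S := by
    simp [TwC.const]
  rw [e]
  exact MorphismProperty.id_mem @LocallyOfFiniteType S

end Groth.Agent.H25LargeAlb
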