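import Groth.Agent.H25LargeAlb.Const
import Groth.Agent.H25LargeAlb.TorusUnit
import Groth.Agent.H25AbCube.Generated
import Groth.Agent.H19Grp.Neutral
import Groth.Agent.H19Grp.Components

/-!
# The neutral component of the Albanese scheme of a proper variety is proper
-/

set_option autoImplicit false
set_option linter.style.haveILetI false
set_option linter.unusedSectionVars false
set_option backward.isDefEq.respectTransparency false
set_option synthInstance.maxHeartbeats 400000
set_option maxHeartbeats 1000000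
universe u

open CategoryTheory CategoryTheory.Limits MonoidalCategory CartesianMonoidalCategory MonObj GrpObj AlgebraicGeometry
open Groth.Agent Groth.Agent.H25AbCube

noncomputable section

namespace Groth.Agent.H25LargeAlb

variable {S : Scheme.{u}}

attribute [local instance] grpObj

/-- The integers, as a multiplicative group in the given universe. -/
abbrev MZ : Type u := Multiplicative (ULift.{u} ℤ)

/-- The generator. -/
abbrev gen : MZ.{u} := Multiplicative.ofAdd (ULift.up 1)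

/-- The homomorphism from the constant group of integers given by a section. -/
def powMap {A : Over S} [GrpObj A] (a : 𝟙_ (Over S) ⟶ A) : TwC.const S MZ.{u} ⟶ A :=
  Over.homMk (Sigma.desc fun m : MZ.{u} => (a ^ (Multiplicative.toAdd m).down).left)
    (Sigma.hom_ext _ _ fun m => by
      rw [← Category.assoc, Sigma.ι_desc]
      exact (Over.w (a ^ (Multiplicative.toAdd m).down)).trans (by simp [TwC.const]))

theorem pt_powMap {A : Over S} [GrpObj A] (a : 𝟙_ (Over S) ⟶ A) (m : MZ.{u}) :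
    TwC.pt S MZ.{u} m ≫ powMap a = a ^ (Multiplicative.toAdd m).down :=
  Over.OverMorphism.ext (Sigma.ι_desc (fun m : MZ.{u} => (a ^ (Multiplicative.toAdd m).down).left) m)

theorem mul_powMap {A : Over S} [GrpObj A] (a : 𝟙_ (Over S) ⟶ A) {T : Over S} (z z' : T ⟶ TwC.const S MZ.{u}) :
    (z * z') ≫ powMap a = (z ≫ powMap a) * (z' ≫ powMap a) := by
  let f : LocallyConstant T.left (MZ.{u} × MZ.{u}) := ⟨fun t => (H28Const.idx z t, H28Const.idx z' t),
    (H28Const.isLocallyConstant_idx z).prodMk (H28Const.isLocallyConstant_idx z')⟩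
  refine Over.OverMorphism.ext ((fibreCover f).hom_ext _ _ fun p => ?_)
  let j : Over.mk ((fibreOpen f p).ι ≫ T.hom) ⟶ T := Over.homMk (fibreOpen f p).ι rfl
  have h1 : j ≫ z = toUnit _ ≫ TwC.pt S MZ.{u} p.1 := H28Const.eq_pt _ _ fun t => by
    rw [H28Const.idx_comp]; exact congrArg Prod.fst t.2
  have h2 : j ≫ z' = toUnit _ ≫ TwC.pt S MZ.{u} p.2 := H28Const.eq_pt _ _ fun t => by
    rw [H28Const.idx_comp]; exact congrArg Prod.snd t.2
  have h3 : j ≫ (z * z') = toUnit _ ≫ TwC.pt S MZ.{u} (p.1 * p.2) := H28Const.eq_pt _ _ fun t => by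
    rw [H28Const.idx_comp, idx_mul]
    exact congrArg₂ (· * ·) (congrArg Prod.fst t.2) (congrArg Prod.snd t.2)
  have e : j ≫ (z * z') ≫ powMap a = j ≫ ((z ≫ powMap a) * (z' ≫ powMap a)) := by
    rw [← Category.assoc, h3, Category.assoc, pt_powMap, MonObj.comp_mul, ← Category.assoc, h1, ← Category.assoc, h2,
      Category.assoc, Category.assoc, pt_powMap, pt_powMap, ← MonObj.comp_mul, ← zpow_add]
    rfl
  exact congrArg (·.left) e

theorem isMonHom_powMap {A : Over S} [GrpObj A] (a : 𝟙_ (Over S) ⟶ A) : IsMonHom (powMap a) where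
  one_hom := by
    have h := mul_powMap a (η[TwC.const S MZ.{u}]) 1
    have h1 : (1 : 𝟙_ (Over S) ⟶ TwC.const S MZ.{u}) = η[TwC.const S MZ.{u}] := by
      rw [Hom.one_def, toUnit_unique (toUnit _) (𝟙 _), Category.id_comp]
    rw [_root_.mul_one, h1] at h
    rw [mul_eq_left.1 h.symm, Hom.one_def, toUnit_unique (toUnit _) (𝟙 _), Category.id_comp]
  mul_hom := by
    have h := mul_powMap a (fst (TwC.const S MZ.{u}) (TwC.const S MZ.{u})) (snd _ _)
    rw [show fst (TwC.const S MZ.{u}) (TwC.const S MZ.{u}) * snd _ _ = μ[TwC.const S MZ.{u}] by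
      rw [Hom.mul_def, lift_fst_snd, Category.id_comp]] at h
    rw [h, Hom.mul_def]
    congr 1


instance isIso_toUnit_unit : IsIso (toUnit (𝟙_ (Over S))) := by
  rw [toUnit_unique (toUnit _) (𝟙 _)]; infer_instance

theorem isMonHom_mul_of_comm {M N : Over S} [GrpObj M] [GrpObj N] [IsCommMonObj N] (f g : M ⟶ N) [IsMonHom f]
    [IsMonHom g] : IsMonHom (f * g) where
  one_hom := by
    rw [MonObj.comp_mul, IsMonHom.one_hom, IsMonHom.one_hom, show η[N] = (1 : 𝟙_ (Over S) ⟶ N) by
      rw [Hom.one_def, toUnit_unique (toUnit _) (𝟙 _), Category.id_comp], _root_.one_mul]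
  mul_hom := by
    have key : ∀ φ : M ⟶ N, (φ ⊗ₘ φ) ≫ μ[N] = (fst M M ≫ φ) * (snd M M ≫ φ) := fun φ => by
      rw [Hom.mul_def]
      congr 1

    rw [key, MonObj.comp_mul, IsMonHom.mul_hom, IsMonHom.mul_hom, key, key, MonObj.comp_mul, MonObj.comp_mul,
      _root_.mul_mul_mul_comm]

theorem isKernel_id {B : Over S} [GrpObj B] : AlgGrp.IsKernel η[B] (𝟙 B) :=
  IsPullback.of_vert_isIso_mono ⟨by rw [Category.comp_id, toUnit_unique (toUnit _) (𝟙 _), Category.id_comp]⟩

variable {k : Type u} [Field k] [IsAlgClosed k]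

theorem isClosed_range_of_open_subgroup {A A0 : Over (Spec (CommRingCat.of k))} [GrpObj A] [GrpObj A0] (e : A0 ⟶ A)
    [IsMonHom e] [IsOpenImmersion e.left] [ConnectedSpace ↥A0.left] :
    Set.range e.left = connectedComponent (H19Grp.ept A) := by
  refine le_antisymm ?_ (H19Grp.component_subset_range_of_isOpen e e.left.isOpenEmbedding.isOpen_range)
  refine (isConnected_range e.left.continuous).isPreconnected.subset_connectedComponent ?_
  exact (H19Grp.component_subset_range_of_isOpen e e.left.isOpenEmbedding.isOpen_range) mem_connectedComponent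

/-- The neutral component of the Albanese scheme of a proper variety is proper. -/
theorem isProper_neutral
    (X : Over (Spec (CommRingCat.of k))) [IsIntegral X.left] [IsProper X.hom]
    (A : Over (Spec (CommRingCat.of k))) [GrpObj A] [IsCommMonObj A] [IsSeparated A.hom] [LocallyOfFiniteType A.hom]
    (A0 : Over (Spec (CommRingCat.of k))) [GrpObj A0] (e₀ : A0 ⟶ A) [IsMonHom e₀] [IsOpenImmersion e₀.left]
    [ConnectedSpace ↥A0.left]
    (T₀ : Over (Spec (CommRingCat.of k))) [GrpObj T₀] (i₀ : T₀ ⟶ A0) [IsMonHom i₀] [IsClosedImmersion i₀.left]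
    (hT₀ : Red.IsTorus T₀)
    (B₀ : Over (Spec (CommRingCat.of k))) [GrpObj B₀] [IsProper B₀.hom] [Smooth B₀.hom] [ConnectedSpace ↥B₀.left]
    (q₀ : A0 ⟶ B₀) [IsMonHom q₀] [Surjective q₀.left] [Flat q₀.left] (hker₀ : AlgGrp.IsKernel i₀ q₀)
    (u : X ⟶ A)
    (huniv : ∀ (G : Over (Spec (CommRingCat.of k))) [GrpObj G] [IsCommMonObj G] [IsSeparated G.hom] [LocallyOfFiniteType G.hom]
      (G0 : Over (Spec (CommRingCat.of k))) [GrpObj G0] (e : G0 ⟶ G) [IsMonHom e] [IsOpenImmersion e.left]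
      [ConnectedSpace ↥G0.left]
      (T : Over (Spec (CommRingCat.of k))) [GrpObj T] (i : T ⟶ G0) [IsMonHom i] [IsClosedImmersion i.left]
      (_ : Red.IsTorus T)
      (B : Over (Spec (CommRingCat.of k))) [GrpObj B] [IsProper B.hom] [Smooth B.hom] [ConnectedSpace ↥B.left]
      (q : G0 ⟶ B) [IsMonHom q] [Surjective q.left] [Flat q.left] (_ : AlgGrp.IsKernel i q)
      (φ : X ⟶ G), ∃! h : A ⟶ G, IsMonHom h ∧ u ≫ h = φ) :
    IsProper A0.hom := by
  classical
  let U := 𝟙_ (Over (Spec (CommRingCat.of k)))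
  haveI hUp : IsProper U.hom := inferInstanceAs (IsProper (𝟙 _))
  haveI hUs : Smooth U.hom := inferInstanceAs (Smooth (𝟙 _))
  haveI hUc : ConnectedSpace ↥U.left := inferInstanceAs (ConnectedSpace (PrimeSpectrum k))
  haveI : JacobsonSpace X.left := LocallyOfFiniteType.jacobsonSpace X.hom
  haveI : GeometricallyIntegral X.hom := geometricallyIntegral_of_isIntegral' X
  obtain ⟨z, -, hz⟩ := nonempty_inter_closedPoints (X := X.left) (Z := Set.univ) Set.univ_nonempty
    isClosed_univ.isLocallyClosed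
  obtain ⟨x₀, -⟩ := Stab.exists_pnt (T := X) hz
  let a : U ⟶ A := x₀ ≫ u
  let u' : X ⟶ A := u * (toUnit X ≫ a)⁻¹
  have hx₀ : x₀ ≫ u' = 1 := by
    rw [MonObj.comp_mul, GrpObj.comp_inv, ← Category.assoc x₀, toUnit_unique (x₀ ≫ toUnit X) (𝟙 _), Category.id_comp]
    exact _root_.mul_inv_cancel _
  have hR := isClosed_range_of_open_subgroup e₀
  have hone : Stab.pnt (1 : U ⟶ A) ∈ Set.range e₀.left :=
    ⟨Stab.pnt (1 : U ⟶ A0), congrArg Stab.pnt (MonObj.one_comp (f := e₀) (X := U))⟩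
  have hu' : Set.range u'.left ⊆ Set.range e₀.left := by
    have hmem : Stab.pnt (1 : U ⟶ A) ∈ Set.range u'.left := ⟨Stab.pnt x₀, congrArg Stab.pnt hx₀⟩
    have h1 := hone
    rw [hR] at h1 ⊢
    rw [connectedComponent_eq h1]
    exact (isConnected_range u'.left.continuous).isPreconnected.subset_connectedComponent hmem
  let u₀ : X ⟶ A0 := Over.homMk (IsOpenImmersion.lift e₀.left u'.left hu') (by
    rw [← Over.w e₀, IsOpenImmersion.lift_fac_assoc, Over.w u'])
  have hu₀ : u₀ ≫ e₀ = u' := Over.OverMorphism.ext (IsOpenImmersion.lift_fac _ _ _)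
  haveI : Mono e₀ := (Over.forget _).mono_of_mono_map (inferInstanceAs (Mono e₀.left))
  have hx₀' : x₀ ≫ u₀ = 1 := by rw [← cancel_mono e₀, Category.assoc, hu₀, hx₀, MonObj.one_comp]
  haveI : IsSeparated A0.hom := by rw [← Over.w e₀]; infer_instance
  haveI : LocallyOfFiniteType A0.hom := by rw [← Over.w e₀]; infer_instance
  haveI : CompactSpace A0.left := H19Grp.compactSpace_of_connected (H19Grp.grpToGrpd A0) (Iso.refl _)
  haveI : QuasiCompact A0.hom :=
    (quasiCompact_iff_compactSpace A0.hom).2 inferInstance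
  obtain ⟨B, gB, i, hi, hic, hBint, hBgi, hBp, hrange, -⟩ := Stab.exists_generated_hom u₀ x₀ hx₀' ⊤ fun _ => trivial
  haveI := hi; haveI := hic; haveI := hBint; haveI := hBgi; haveI := hBp
  haveI hBs : Smooth B.hom := by
    haveI : GrpObj (Over.mk B.hom) := inferInstanceAs (GrpObj B)
    exact smooth_of_grpObj B.hom
  haveI hBc : IsCommMonObj B := H25AbCube.isCommMonObj_of_av
  haveI : IsReduced X.left := inferInstance
  obtain ⟨w₀, hw₀⟩ := H17.exists_lift_of_range_subset u₀.left i.left hrange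
  let w : X ⟶ B := Over.homMk w₀ (by rw [← Over.w i, ← Category.assoc, hw₀, Over.w u₀])
  have hw : w ≫ i = u₀ := Over.OverMorphism.ext hw₀
  -- to the generated abelian variety
  haveI : Subsingleton U.left := inferInstanceAs (Subsingleton (PrimeSpectrum k))
  haveI : Subsingleton (𝟙_ (Over (Spec (CommRingCat.of k)))).left := inferInstanceAs (Subsingleton (PrimeSpectrum k))
  haveI : IsClosedImmersion (η[B]).left := isClosedImmersion_of_comp_eq_id _ _ (Over.w η[B])
  obtain ⟨hW, ⟨hWm, hWu⟩, -⟩ := huniv B B (𝟙 B) U η[B] isTorus_unit B (𝟙 B) isKernel_id w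
  haveI := hWm
  -- to the integers
  haveI : IsSeparated (TwC.const (Spec (CommRingCat.of k)) MZ.{u}).hom :=
    H19Grp.AffineQuotient.isSeparated_of_grp _
  haveI : LocallyOfFiniteType (TwC.const (Spec (CommRingCat.of k)) MZ.{u}).hom := locallyOfFiniteType_hom _ _
  haveI : IsCommMonObj (TwC.const (Spec (CommRingCat.of k)) MZ.{u}) := isCommMonObj
  haveI : IsOpenImmersion (η[TwC.const (Spec (CommRingCat.of k)) MZ.{u}]).left := by
    have h : η[TwC.const (Spec (CommRingCat.of k)) MZ.{u}] = TwC.pt _ MZ.{u} 1 := ext_idx fun t => by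
      rw [show η[TwC.const (Spec (CommRingCat.of k)) MZ.{u}] = (1 : U ⟶ _) by
        rw [Hom.one_def, toUnit_unique (toUnit _) (𝟙 _), Category.id_comp], idx_one,
        ← Category.id_comp (TwC.pt _ MZ.{u} 1), ← toUnit_unique (toUnit U) (𝟙 _), H28Const.idx_pt]
    rw [h]
    exact inferInstanceAs (IsOpenImmersion (Sigma.ι (fun _ : MZ.{u} => Spec (CommRingCat.of k)) 1))
  haveI : IsClosedImmersion (𝟙 U : U ⟶ U).left := inferInstanceAs (IsClosedImmersion (𝟙 _))
  haveI : Surjective (𝟙 U : U ⟶ U).left := inferInstanceAs (Surjective (𝟙 _))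
  haveI : Flat (𝟙 U : U ⟶ U).left := inferInstanceAs (Flat (𝟙 _))
  have hkU : AlgGrp.IsKernel (𝟙 U) (𝟙 U) :=
    IsPullback.of_vert_isIso_mono ⟨toUnit_unique _ _⟩
  obtain ⟨hZ, ⟨hZm, hZu⟩, -⟩ := huniv (TwC.const (Spec (CommRingCat.of k)) MZ.{u}) U η[_] U (𝟙 U) isTorus_unit U
    (𝟙 U) hkU (toUnit X ≫ TwC.pt _ MZ.{u} gen)
  haveI := hZm
  haveI := isMonHom_powMap a
  -- to the Albanese scheme itself
  let δ : A ⟶ A := 𝟙 A * (hW ≫ i ≫ e₀)⁻¹
  have hδu : u ≫ δ = toUnit X ≫ a := by
    rw [MonObj.comp_mul, Category.comp_id, GrpObj.comp_inv, reassoc_of% hWu, reassoc_of% hw, hu₀]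
    show u * (u * (toUnit X ≫ a)⁻¹)⁻¹ = _
    rw [_root_.mul_inv_rev, _root_.inv_inv, ← _root_.mul_assoc, mul_comm u, _root_.mul_assoc, _root_.mul_inv_cancel, _root_.mul_one]
  have hδ : δ = hZ ≫ powMap a := by
    obtain ⟨h, -, huq⟩ := huniv A A0 e₀ T₀ i₀ hT₀ B₀ q₀ hker₀ (toUnit X ≫ a)
    rw [huq δ ⟨isMonHom_mul_of_comm _ _, hδu⟩, huq (hZ ≫ powMap a) ⟨inferInstance, by
      rw [reassoc_of% hZu, pt_powMap]
      show toUnit X ≫ a ^ (1 : ℤ) = _
      rw [zpow_one]⟩]
  have h0 : e₀ ≫ hZ = 1 := ext_idx fun t => by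
    rw [(H28Const.isLocallyConstant_idx (e₀ ≫ hZ)).apply_eq_of_preconnectedSpace t
      (η[A0].left (IsLocalRing.closedPoint k)), ← H28Const.idx_comp, IsMonHom.one_hom, idx_one,
      show η[TwC.const (Spec (CommRingCat.of k)) MZ.{u}] = (1 : U ⟶ _) by
        rw [Hom.one_def, toUnit_unique (toUnit _) (𝟙 _), Category.id_comp], idx_one]
  have hid : (e₀ ≫ hW) ≫ i = 𝟙 A0 := by
    rw [← cancel_mono e₀, Category.assoc, Category.assoc, Category.id_comp]
    have h := congrArg (e₀ ≫ ·) hδ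
    simp only [δ, MonObj.comp_mul, Category.comp_id, GrpObj.comp_inv, reassoc_of% h0, MonObj.one_comp] at h
    exact (mul_inv_eq_one.1 h).symm
  haveI : Mono i.left := inferInstance
  haveI : IsSplitEpi i.left := ⟨⟨⟨(e₀ ≫ hW).left, congrArg (·.left) hid⟩⟩⟩
  haveI : IsIso i.left := isIso_of_mono_of_isSplitEpi i.left
  rw [show A0.hom = inv i.left ≫ B.hom by rw [IsIso.eq_inv_comp, Over.w i]]
  infer_instance

end Groth.Agent.H25LargeAlb
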